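import Mathlib.RingTheory.HopfAlgebra.TensorProduct
import Mathlib.RingTheory.HopfAlgebra.MonoidAlgebra
import Mathlib.RingTheory.HopfAlgebra.GroupLike
import Mathlib.RingTheory.Coalgebra.Convolution
import Mathlib.RingTheory.TensorProduct.Free
import Mathlib.LinearAlgebra.TensorProduct.Tower
import Mathlib.LinearAlgebra.Dual.Lemmas
import Mathlib.RingTheory.Finiteness.Projective

/-!
# The Cartier dual algebra of a finite projective cocommutative Hopf algebra
-/

set_option autoImplicit false

universe u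

open TensorProduct WithConv Coalgebra

noncomputable section

namespace Groth.L25.FinMult

variable {R : Type u} [CommRing R] {A : Type u} [CommRing A] [HopfAlgebra R A] [Coalgebra.IsCocomm R A]

variable (R A) in
/-- The dual algebra. -/
abbrev Du : Type u := WithConv (A →ₗ[R] R)

variable {T : Type u} [CommRing T] [Algebra R T]

variable (T) in
/-- Extension of a functional. -/
def fn : Du R A →ₗ[R] (T ⊗[R] A →ₗ[T] T) where
  toFun f := (TensorProduct.AlgebraTensorModule.rid R T T).toLinearMap ∘ₗ LinearMap.baseChange T f.ofConv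
  map_add' f g := by ext; simp [add_smul]
  map_smul' c f := by ext; simp [TensorProduct.smul_tmul', mul_smul, smul_comm c]

theorem fn_tmul (f : Du R A) (t : T) (a : A) : fn T f (t ⊗ₜ[R] a) = f.ofConv a • t := by simp [fn]

/-- The pairing of the base changed algebra and its dual. -/
def pair : T ⊗[R] A →ₗ[T] (T ⊗[R] Du R A →ₗ[T] T) :=
  (LinearMap.liftBaseChange T (fn (A := A) T)).flip

theorem pair_tmul (w : T ⊗[R] A) (t : T) (f : Du R A) : pair w (t ⊗ₜ[R] f) = t * fn T f w := by
  simp [pair]

theorem pair_one_tmul (a : A) (z : T ⊗[R] Du R A) :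
    pair ((1 : T) ⊗ₜ[R] a) z = TensorProduct.AlgebraTensorModule.rid R T T
      (LinearMap.baseChange T ((LinearMap.applyₗ a).comp (WithConv.linearEquiv R (A →ₗ[R] R)).toLinearMap) z) := by
  induction z with
  | zero => simp
  | add x y hx hy => simp only [map_add, hx, hy]
  | tmul t f => simp [pair_tmul, fn_tmul, Algebra.smul_def, mul_comm]

variable (T A) in
/-- The tensor square of functionals. -/
def fn₂ (f g : Du R A) : (T ⊗[R] A) ⊗[T] (T ⊗[R] A) →ₗ[T] T :=
  (TensorProduct.lid T T).toLinearMap ∘ₗ TensorProduct.map (fn T f) (fn T g)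

theorem fn₂_tmul (f g : Du R A) (x y : T ⊗[R] A) : fn₂ A T f g (x ⊗ₜ[T] y) = fn T f x * fn T g y := by
  simp [fn₂]

theorem fn_mul (f g : Du R A) (z : T ⊗[R] A) :
    fn T (f * g) z = fn₂ A T f g (Coalgebra.comul (R := T) z) := by
  induction z with
  | zero => simp
  | add x y hx hy => simp only [map_add, hx, hy]
  | tmul t a =>
    rw [show t ⊗ₜ[R] a = t • ((1 : T) ⊗ₜ[R] a) by rw [TensorProduct.smul_tmul', smul_eq_mul, mul_one],
      map_smul, map_smul, map_smul]
    congr 1
    rw [fn_tmul, LinearMap.convMul_apply]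
    show _ = fn₂ A T f g (TensorProduct.AlgebraTensorModule.tensorTensorTensorComm R T R T T T A A
      (CoalgebraStruct.comul (R := T) (A := T) 1 ⊗ₜ[R] Coalgebra.comul (R := R) a))
    rw [CommSemiring.comul_apply]
    induction Coalgebra.comul (R := R) a with
    | zero => simp
    | add x y hx hy => simp only [map_add, TensorProduct.tmul_add, add_smul, hx, hy]
    | tmul x y => simp [fn₂_tmul, fn_tmul, Algebra.smul_def, mul_comm]

theorem fn_one (z : T ⊗[R] A) : fn T (1 : Du R A) z = Coalgebra.counit (R := T) z := by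
  induction z with
  | zero => simp
  | add x y hx hy => simp only [map_add, hx, hy]
  | tmul t a => simp [fn_tmul, LinearMap.convOne_apply, Algebra.smul_def, mul_comm]

/-- A group-like element is a point of the dual. -/
def chr {γ : T ⊗[R] A} (hγ : IsGroupLikeElem T γ) : T ⊗[R] Du R A →ₐ[T] T :=
  Algebra.TensorProduct.lift (AlgHom.id T T)
    (AlgHom.ofLinearMap ((LinearMap.applyₗ γ).restrictScalars R ∘ₗ fn T)
      (show fn T (1 : Du R A) γ = 1 by rw [fn_one, hγ.counit_eq_one])
      (fun f g => show fn T (f * g) γ = fn T f γ * fn T g γ by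
        rw [fn_mul, hγ.comul_eq_tmul_self, fn₂_tmul]))
    fun _ _ => Commute.all _ _

theorem chr_apply {γ : T ⊗[R] A} (hγ : IsGroupLikeElem T γ) (z : T ⊗[R] Du R A) : chr hγ z = pair γ z := by
  induction z with
  | zero => simp
  | add x y hx hy => simp only [map_add, hx, hy]
  | tmul t f => simp [chr, pair_tmul] <;> rfl

variable [Module.Finite R A] [Module.Projective R A]

variable (R A) in
/-- A dual basis. -/
theorem exists_dualBasis : ∃ (n : ℕ) (x : Fin n → A) (f : Fin n → Du R A),
    ∀ a : A, ∑ i, (f i).ofConv a • x i = a := by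
  obtain ⟨n, p, q, _, _, hpq⟩ := Module.Finite.exists_comp_eq_id_of_projective R A
  refine ⟨n, fun i => p (Pi.single i 1), fun i => toConv ((LinearMap.proj i).comp q), fun a => ?_⟩
  conv_rhs => rw [show a = p (q a) from (LinearMap.congr_fun hpq a).symm, pi_eq_sum_univ' (q a), map_sum]
  refine Finset.sum_congr rfl fun i _ => ?_
  rw [map_smul]
  congr 2

theorem recon {n : ℕ} {x : Fin n → A} {f : Fin n → Du R A} (h : ∀ a : A, ∑ i, (f i).ofConv a • x i = a)
    (z : T ⊗[R] A) : ∑ i, fn T (f i) z • ((1 : T) ⊗ₜ[R] x i) = z := by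
  induction z with
  | zero => simp
  | add p q hp hq => simp only [map_add, add_smul, Finset.sum_add_distrib, hp, hq]
  | tmul t a =>
    conv_rhs => rw [← h a, TensorProduct.tmul_sum]
    refine Finset.sum_congr rfl fun i _ => ?_
    rw [fn_tmul, TensorProduct.smul_tmul', smul_eq_mul, mul_one, TensorProduct.smul_tmul]

theorem recon₂ {n : ℕ} {x : Fin n → A} {f : Fin n → Du R A} (h : ∀ a : A, ∑ i, (f i).ofConv a • x i = a)
    (z : (T ⊗[R] A) ⊗[T] (T ⊗[R] A)) :
    ∑ i, ∑ j, fn₂ A T (f i) (f j) z • (((1 : T) ⊗ₜ[R] x i) ⊗ₜ[T] ((1 : T) ⊗ₜ[R] x j)) = z := by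
  induction z with
  | zero => simp
  | add p q hp hq => simp only [map_add, add_smul, Finset.sum_add_distrib, hp, hq]
  | tmul p q =>
    conv_rhs => rw [← recon h p, ← recon h q, TensorProduct.sum_tmul]
    refine Finset.sum_congr rfl fun i _ => ?_
    rw [TensorProduct.tmul_sum]
    refine Finset.sum_congr rfl fun j _ => ?_
    rw [fn₂_tmul, TensorProduct.smul_tmul_smul]

theorem recon_dual {n : ℕ} {x : Fin n → A} {f : Fin n → Du R A} (h : ∀ a : A, ∑ i, (f i).ofConv a • x i = a)
    (z : T ⊗[R] Du R A) : ∑ i, pair ((1 : T) ⊗ₜ[R] x i) z • ((1 : T) ⊗ₜ[R] f i) = z := by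
  induction z with
  | zero => simp
  | add p q hp hq => simp only [map_add, add_smul, Finset.sum_add_distrib, hp, hq]
  | tmul t g =>
    have hg : ∑ i, g.ofConv (x i) • f i = g := by
      apply (WithConv.linearEquiv R (A →ₗ[R] R)).injective
      ext a
      simp only [map_sum, map_smul, WithConv.linearEquiv_apply, LinearMap.coe_sum, Finset.sum_apply,
        LinearMap.smul_apply, smul_eq_mul]
      conv_rhs => rw [← h a, map_sum]
      simp [mul_comm]
    conv_rhs => rw [← hg, TensorProduct.tmul_sum]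
    refine Finset.sum_congr rfl fun i _ => ?_
    rw [pair_tmul, fn_tmul, TensorProduct.smul_tmul', smul_eq_mul, mul_one, ← TensorProduct.smul_tmul]
    simp [Algebra.smul_def, mul_comm]

/-- If group-like elements form a basis, the dual algebra is split. -/
theorem exists_dual_equiv {M : Type u} (γ : Module.Basis M T (T ⊗[R] A)) (hγ : ∀ m, IsGroupLikeElem T (γ m)) :
    Nonempty (T ⊗[R] Du R A ≃ₐ[T] (M → T)) := by
  obtain ⟨n, x, f, h⟩ := exists_dualBasis R A
  let Φ : T ⊗[R] Du R A →ₐ[T] (M → T) := Pi.algHom T (fun _ : M => T) fun m => chr (hγ m)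
  refine ⟨AlgEquiv.ofBijective Φ ⟨(injective_iff_map_eq_zero Φ).2 fun z hz => ?_, fun v => ?_⟩⟩
  · have hw : ∀ w, pair w z = 0 := fun w => by
      have h1 : (pair (T := T)).flip z = 0 := γ.ext fun m => by
        rw [LinearMap.flip_apply, ← chr_apply (hγ m)]
        exact congrFun hz m
      exact LinearMap.congr_fun h1 w
    rw [← recon_dual h z]
    simp [hw]
  · let L : T ⊗[R] A →ₗ[T] T := γ.constr T v
    refine ⟨∑ i, L ((1 : T) ⊗ₜ[R] x i) ⊗ₜ[R] f i, funext fun m => ?_⟩
    show chr (hγ m) _ = v m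
    rw [map_sum]
    simp only [chr_apply, pair_tmul]
    conv_rhs => rw [← show L (γ m) = v m from γ.constr_basis T v m, ← recon h (γ m), map_sum]
    exact Finset.sum_congr rfl fun i _ => by rw [map_smul, smul_eq_mul, mul_comm]

/-- An algebra map to a ring without non-trivial idempotents from a finite product is a projection. -/
theorem exists_proj {ι : Type*} [Fintype ι] [Nontrivial T] (hT : ∀ e : T, IsIdempotentElem e → e = 0 ∨ e = 1)
    (φ : (ι → T) →ₐ[T] T) : ∃ i, ∀ v, φ v = v i := by
  classical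
  obtain ⟨i, -, hi⟩ : ∃ i ∈ (Finset.univ : Finset ι), φ (Pi.single i 1) ≠ 0 := by
    refine Finset.exists_ne_zero_of_sum_ne_zero ?_
    rw [← map_sum, Finset.univ_sum_single, show (fun _ => (1 : T)) = (1 : ι → T) from rfl, map_one]
    exact one_ne_zero
  have hidem : IsIdempotentElem (Pi.single i 1 : ι → T) := by
    rw [IsIdempotentElem, ← Pi.single_mul, one_mul]
  have h1 := (hT _ (hidem.map φ)).resolve_left hi
  refine ⟨i, fun v => ?_⟩
  have h2 : v * Pi.single i 1 = v i • (Pi.single i 1 : ι → T) := by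
    funext j
    by_cases hj : j = i
    · subst hj; simp
    · simp [Pi.single_eq_of_ne hj]
  have h3 := congrArg φ h2
  rw [map_mul, map_smul, h1, mul_one, smul_eq_mul, mul_one] at h3
  exact h3

/-- Over a ring without non-trivial idempotents a split dual gives a diagonalisable algebra. -/
theorem exists_diag [Nontrivial T] (hT : ∀ e : T, IsIdempotentElem e → e = 0 ∨ e = 1) {ι : Type*} [Fintype ι]
    (ε : T ⊗[R] Du R A ≃ₐ[T] (ι → T)) :
    ∃ (M : Type u) (_ : CommGroup M), Nonempty (T ⊗[R] A ≃ₐc[T] MonoidAlgebra T M) := by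
  classical
  obtain ⟨n, x, f, h⟩ := exists_dualBasis R A
  -- the elements of the dual basis
  let π : ι → T ⊗[R] Du R A →ₐ[T] T := fun l => (Pi.evalAlgHom T (fun _ => T) l).comp ε.toAlgHom
  let γ : ι → T ⊗[R] A := fun l => ∑ i, π l ((1 : T) ⊗ₜ[R] f i) • ((1 : T) ⊗ₜ[R] x i)
  have hpair : ∀ l z, pair (γ l) z = π l z := by
    intro l z
    conv_rhs => rw [← recon_dual h z]
    simp [γ, mul_comm]
  have hfn : ∀ l g, fn T g (γ l) = π l ((1 : T) ⊗ₜ[R] g) := fun l g => by rw [← hpair, pair_tmul, one_mul]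
  have hgl : ∀ l, IsGroupLikeElem T (γ l) := by
    intro l
    refine ⟨by rw [← fn_one, hfn]; exact (π l).toRingHom.map_one, ?_⟩
    rw [← recon₂ h (Coalgebra.comul (R := T) (γ l))]
    conv_rhs => rw [← recon h (γ l), TensorProduct.sum_tmul]
    refine Finset.sum_congr rfl fun i _ => ?_
    rw [TensorProduct.tmul_sum]
    refine Finset.sum_congr rfl fun j _ => ?_
    rw [← fn_mul, hfn, hfn, hfn, TensorProduct.smul_tmul_smul, ← map_mul, Algebra.TensorProduct.tmul_mul_tmul,
      one_mul]
  have hinj : ∀ l l', γ l = γ l' → l = l' := by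
    intro l l' hll
    by_contra hne
    have h1 := hpair l (ε.symm (Pi.single l 1))
    rw [hll, hpair] at h1
    simp [π, Pi.single_eq_of_ne' hne] at h1
  have hall : ∀ m : GroupLike T (T ⊗[R] A), ∃ l, γ l = m.val := by
    intro m
    obtain ⟨l, hl⟩ := exists_proj hT ((chr m.isGroupLikeElem_val).comp ε.symm.toAlgHom)
    refine ⟨l, ?_⟩
    conv_rhs => rw [← recon h m.val]
    refine Finset.sum_congr rfl fun i _ => ?_
    congr 1
    show ε ((1 : T) ⊗ₜ[R] f i) l = _
    refine (hl (ε ((1 : T) ⊗ₜ[R] f i))).symm.trans ?_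
    show chr m.isGroupLikeElem_val (ε.symm (ε ((1 : T) ⊗ₜ[R] f i))) = _
    rw [AlgEquiv.symm_apply_apply, chr_apply, pair_tmul, one_mul]
  have hspan : ∀ z, ∑ l, pair z (ε.symm (Pi.single l 1)) • γ l = z := by
    intro z
    conv_rhs => rw [← recon h z]
    simp only [γ, Finset.smul_sum, smul_smul]
    rw [Finset.sum_comm]
    refine Finset.sum_congr rfl fun i _ => ?_
    rw [← Finset.sum_smul]
    congr 1
    have h1 : (1 : T) ⊗ₜ[R] f i = ∑ l, π l ((1 : T) ⊗ₜ[R] f i) • ε.symm (Pi.single l 1) := by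
      apply ε.injective
      simp only [map_sum, map_smul, AlgEquiv.apply_symm_apply]
      funext j
      simp [π, Finset.sum_apply, Pi.single_apply]
    conv_rhs => rw [← one_mul (fn T (f i) z), ← pair_tmul, h1, map_sum]
    simp [mul_comm]
  let θ := MonoidAlgebra.liftGroupLikeBialgHom (R := T) (A := T ⊗[R] A)
  have hθ : ∀ c, θ c = Finsupp.linearCombination T (fun g : GroupLike T (T ⊗[R] A) => g.val) c.coeff := by
    intro c
    induction c using MonoidAlgebra.induction_linear with
    | zero => simp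
    | add a b ha hb => rw [MonoidAlgebra.coeff_add, map_add, map_add, ha, hb]
    | single g r => simp [θ, Algebra.smul_def]
  refine ⟨GroupLike T (T ⊗[R] A), inferInstance, ⟨(BialgEquiv.ofBijective θ ⟨?_, fun z => ?_⟩).symm⟩⟩
  · refine (injective_iff_map_eq_zero θ).2 fun c hc => ?_
    refine MonoidAlgebra.coeff_injective (Finsupp.ext fun m => ?_)
    rw [hθ] at hc
    obtain ⟨l, hl⟩ := hall m
    have h1 := congrArg (fun w => pair w (ε.symm (Pi.single l 1))) hc
    simp only [map_zero, LinearMap.zero_apply, Finsupp.linearCombination_apply, Finsupp.sum, map_sum, map_smul,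
      LinearMap.coe_sum, Finset.sum_apply, LinearMap.smul_apply, smul_eq_mul] at h1
    rw [Finset.sum_eq_single m ?_ (fun hm => by rw [Finsupp.notMem_support_iff.1 hm, zero_mul])] at h1
    · rw [← hl, hpair] at h1
      simpa [π] using h1
    · intro m' _ hne
      obtain ⟨l', hl'⟩ := hall m'
      rw [← hl', hpair]
      have : l' ≠ l := fun e => hne (GroupLike.ext (by rw [← hl', ← hl, e]))
      simp [π, Pi.single_eq_of_ne this]
  · refine ⟨∑ l, pair z (ε.symm (Pi.single l 1)) • MonoidAlgebra.single (⟨γ l, hgl l⟩ : GroupLike T _) 1, ?_⟩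
    rw [map_sum]
    conv_rhs => rw [← hspan z]
    refine Finset.sum_congr rfl fun l _ => ?_
    rw [map_smul]
    simp [θ]

end Groth.L25.FinMult
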