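import Groth.Agent.L25.FinMult.Dual
import Groth.Agent.L25.Char.Adic
import Groth.Agent.L25.Char.EtaleSplit
import Groth.Agent.L25.MultType.Torsion
import Mathlib.RingTheory.TotallySplit
import Mathlib.RingTheory.Etale.Pi
import Mathlib.RingTheory.Etale.QuasiFinite
import Mathlib.RingTheory.Kaehler.TensorProduct
import Mathlib.RingTheory.Smooth.Fiber
import Mathlib.RingTheory.Smooth.Flat
import Mathlib.RingTheory.Spectrum.Prime.FreeLocus
import Mathlib.RingTheory.Localization.Away.Lemmas

/-!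
# Finite groups of multiplicative type over connected bases are isotrivial
-/

set_option autoImplicit false

universe u

open TensorProduct

noncomputable section

namespace Groth.L25.FinMult

variable {R : Type u} [CommRing R]

/-- A module killed by a jointly surjective family of flat algebras vanishes. -/
theorem subsingleton_of_forall_prime {M : Type u} [AddCommGroup M] [Module R M]
    (h : ∀ (p : Ideal R) [p.IsPrime], ∃ (B : Type u) (_ : CommRing B) (_ : Algebra R B) (_ : Module.Flat R B)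
      (q : Ideal B), q.IsPrime ∧ q.comap (algebraMap R B) = p ∧ Subsingleton (B ⊗[R] M)) : Subsingleton M := by
  refine subsingleton_of_forall_eq 0 fun x => ?_
  by_contra hx
  let I : Ideal R := LinearMap.ker (LinearMap.toSpanSingleton R M x)
  have hI : I ≠ ⊤ := fun hI => hx (by
    have h1 : (1 : R) ∈ I := hI ▸ Submodule.mem_top
    simpa [I] using h1)
  obtain ⟨p, hp, hle⟩ := Ideal.exists_le_maximal I hI
  haveI := hp.isPrime
  obtain ⟨B, _, _, _, q, hq, hqp, hsub⟩ := h p
  let ι : R ⧸ I →ₗ[R] M := Submodule.liftQ I (LinearMap.toSpanSingleton R M x) le_rfl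
  have hι : Function.Injective ι := LinearMap.ker_eq_bot.1 (Submodule.ker_liftQ_eq_bot _ _ _ le_rfl)
  have : Subsingleton (B ⊗[R] (R ⧸ I)) :=
    (Module.Flat.lTensor_preserves_injective_linearMap (M := B) ι hι).subsingleton
  let g : R ⧸ I →ₐ[R] B ⧸ q := Ideal.Quotient.liftₐ I (Algebra.ofId R (B ⧸ q)) fun r hr => by
    rw [Algebra.ofId_apply, IsScalarTower.algebraMap_apply R B (B ⧸ q), Ideal.Quotient.algebraMap_eq,
      Ideal.Quotient.eq_zero_iff_mem]
    exact (hqp.ge (hle hr) : r ∈ q.comap (algebraMap R B))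
  let G : B ⊗[R] (R ⧸ I) →ₐ[R] B ⧸ q :=
    Algebra.TensorProduct.lift (Ideal.Quotient.mkₐ R q) g fun _ _ => Commute.all _ _
  haveI : Nontrivial (B ⧸ q) := Ideal.Quotient.nontrivial_iff.2 hq.ne_top
  exact one_ne_zero (α := B ⧸ q) (by rw [← map_one G, Subsingleton.elim (1 : B ⊗[R] (R ⧸ I)) 0, map_zero])

/-- A finite étale cover of a connected base has a component without idempotents. -/
theorem exists_component [ConnectedSpace (PrimeSpectrum R)] (T : Type u) [CommRing T] [Algebra R T]
    [Algebra.Etale R T] [Module.Finite R T] [Module.FaithfullyFlat R T] :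
    ∃ (T₁ : Type u) (_ : CommRing T₁) (_ : Algebra R T₁) (_ : Algebra T T₁) (_ : IsScalarTower R T T₁),
      Algebra.Etale R T₁ ∧ Module.Finite R T₁ ∧ Module.FaithfullyFlat R T₁ ∧ Nontrivial T₁ ∧
        ∀ e : T₁, IsIdempotentElem e → e = 0 ∨ e = 1 := by
  classical
  have hint : (algebraMap R T).IsIntegral := algebraMap_isIntegral_iff.2 inferInstance
  have hclopen : ∀ e : T, IsIdempotentElem e → e ≠ 0 →
      PrimeSpectrum.comap (algebraMap R T) '' (PrimeSpectrum.basicOpen e : Set (PrimeSpectrum T)) = Set.univ := by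
    intro e he he0
    refine IsClopen.eq_univ ⟨?_, ?_⟩ (Set.Nonempty.image _ ?_)
    · exact PrimeSpectrum.isClosedMap_comap_of_isIntegral _ hint _
        ((PrimeSpectrum.isClopen_iff).2 ⟨e, he, rfl⟩).isClosed
    · exact PrimeSpectrum.isOpenMap_comap_of_hasGoingDown_of_finitePresentation _
        PrimeSpectrum.isOpen_basicOpen
    · by_contra hemp
      rw [Set.not_nonempty_iff_eq_empty, ← TopologicalSpace.Opens.coe_bot, SetLike.coe_set_eq,
        PrimeSpectrum.basicOpen_eq_bot_iff] at hemp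
      exact he0 (he.eq_zero_of_isNilpotent hemp)
  obtain ⟨p₀⟩ : Nonempty (PrimeSpectrum R) := inferInstance
  let F := {q : PrimeSpectrum T | PrimeSpectrum.comap (algebraMap R T) q = p₀}
  have hF : F.Finite := by
    refine ((Algebra.QuasiFinite.finite_primesOver (S := T) p₀.asIdeal).preimage
      (f := fun q : PrimeSpectrum T => q.asIdeal) fun a _ b _ h => PrimeSpectrum.ext h).subset fun q hq => ?_
    exact ⟨q.isPrime, ⟨(congrArg PrimeSpectrum.asIdeal hq).symm⟩⟩
  have hsep : ∀ e e' : T, IsIdempotentElem e → IsIdempotentElem e' →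
      (∀ q ∈ F, (e ∈ q.asIdeal ↔ e' ∈ q.asIdeal)) → e * (1 - e') = 0 := by
    intro e e' he he' h
    by_contra hne
    obtain ⟨q, hq, hqF⟩ := (hclopen _ (he.mul he'.one_sub) hne).ge (Set.mem_univ p₀)
    have hq' : e * (1 - e') ∉ q.asIdeal := hq
    have h1 : e ∉ q.asIdeal := fun h1 => hq' (q.asIdeal.mul_mem_right _ h1)
    have h2 : 1 - e' ∉ q.asIdeal := fun h2 => hq' (q.asIdeal.mul_mem_left _ h2)
    have h3 : e' * (1 - e') ∈ q.asIdeal := by rw [mul_sub, mul_one, he'.eq, sub_self]; exact q.asIdeal.zero_mem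
    exact h1 ((h q hqF).2 ((q.isPrime.mem_or_mem h3).resolve_right h2))
  obtain ⟨q₀, hq₀⟩ : ∃ q, PrimeSpectrum.comap (algebraMap R T) q = p₀ :=
    PrimeSpectrum.comap_surjective_of_faithfullyFlat p₀
  let E := {e : T | IsIdempotentElem e}
  have hE : E.Finite := by
    refine Set.Finite.of_finite_image (f := fun e => {q ∈ F | e ∈ q.asIdeal})
      (hF.finite_subsets.subset ?_) ?_
    · rintro _ ⟨e, _, rfl⟩
      exact fun q hq => hq.1
    · intro e he e' he' h
      have h' : ∀ q ∈ F, (e ∈ q.asIdeal ↔ e' ∈ q.asIdeal) := fun q hq =>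
        ⟨fun h1 => ((Set.ext_iff.1 h q).1 ⟨hq, h1⟩).2, fun h1 => ((Set.ext_iff.1 h q).2 ⟨hq, h1⟩).2⟩
      have a := hsep e e' he he' h'
      have b := hsep e' e he' he fun q hq => (h' q hq).symm
      rw [mul_sub, mul_one, sub_eq_zero] at a b
      exact a.trans ((mul_comm e e').trans b.symm)
  let S := hE.toFinset.filter fun e => e ∉ q₀.asIdeal
  have hS : ∀ e ∈ S, IsIdempotentElem e ∧ e ∉ q₀.asIdeal := fun e he =>
    ⟨hE.mem_toFinset.1 (Finset.mem_filter.1 he).1, (Finset.mem_filter.1 he).2⟩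
  let e₀ := ∏ e ∈ S, e
  have he₀ : IsIdempotentElem e₀ := by
    show (∏ e ∈ S, e) * (∏ e ∈ S, e) = ∏ e ∈ S, e
    rw [← Finset.prod_mul_distrib]
    exact Finset.prod_congr rfl fun e he => (hS e he).1
  have he₀q : e₀ ∉ q₀.asIdeal := fun h => by
    obtain ⟨e, he, he'⟩ := q₀.isPrime.prod_mem_iff.1 h
    exact (hS e he).2 he'
  have hmin : ∀ e, IsIdempotentElem e → e ∉ q₀.asIdeal → e₀ * e = e₀ := fun e he hq => by
    have hmem : e ∈ S := Finset.mem_filter.2 ⟨hE.mem_toFinset.2 he, hq⟩
    rw [show e₀ = e * ∏ x ∈ S.erase e, x from (Finset.mul_prod_erase S (fun x => x) hmem).symm, mul_comm,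
      ← mul_assoc, he.eq]
  let I : Ideal T := Ideal.span {1 - e₀}
  haveI : IsLocalization.Away e₀ (T ⧸ I) := IsLocalization.Away.quotient_of_isIdempotentElem he₀
  haveI : Algebra.Etale T (T ⧸ I) := Algebra.Etale.of_isLocalizationAway e₀
  haveI : Algebra.Etale R (T ⧸ I) := Algebra.Etale.comp R T (T ⧸ I)
  haveI : Nontrivial (T ⧸ I) := Ideal.Quotient.nontrivial_iff.2 fun hI => he₀q (by
    obtain ⟨c, hc⟩ := Ideal.mem_span_singleton'.1 (show e₀ ∈ I from hI ▸ Submodule.mem_top)
    rw [← he₀.eq]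
    nth_rewrite 2 [← hc]
    rw [mul_left_comm, mul_sub, mul_one, he₀.eq, sub_self, mul_zero]
    exact q₀.asIdeal.zero_mem)
  refine ⟨T ⧸ I, inferInstance, inferInstance, inferInstance, inferInstance, inferInstance,
    Module.Finite.of_surjective (Ideal.Quotient.mkₐ R I).toLinearMap Ideal.Quotient.mk_surjective, ?_,
    inferInstance, fun f hf => ?_⟩
  · refine Module.FaithfullyFlat.of_comap_surjective fun p => ?_
    have h0 : e₀ ≠ 0 := fun h0 => he₀q (h0 ▸ q₀.asIdeal.zero_mem)
    obtain ⟨q, hq, hqp⟩ := (hclopen e₀ he₀ h0).ge (Set.mem_univ p)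
    rw [← PrimeSpectrum.localization_away_comap_range (T ⧸ I) e₀] at hq
    obtain ⟨w, hw⟩ := hq
    refine ⟨w, ?_⟩
    rw [← hqp, ← hw, ← PrimeSpectrum.comap_comp_apply, ← IsScalarTower.algebraMap_eq]
  · obtain ⟨x, rfl⟩ := Ideal.Quotient.mk_surjective f
    have h1 : Ideal.Quotient.mk I e₀ = 1 := by
      rw [← (Ideal.Quotient.mk I).map_one, Ideal.Quotient.eq]
      exact Ideal.mem_span_singleton'.2 ⟨-1, by ring⟩
    have hx : x * x - x ∈ I := Ideal.Quotient.eq.1 (by rw [map_mul]; exact hf)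
    obtain ⟨c, hc⟩ := Ideal.mem_span_singleton'.1 hx
    have hz : x * e₀ * (x * e₀) = x * e₀ := by
      have h2 : (x * x - x) * e₀ = 0 := by
        rw [← hc, mul_assoc, sub_mul, one_mul, he₀.eq, sub_self, mul_zero]
      rw [sub_mul, sub_eq_zero] at h2
      rw [mul_mul_mul_comm, he₀.eq, h2]
    by_cases hq : x * e₀ ∈ q₀.asIdeal
    · left
      have h3 := hmin _ (IsIdempotentElem.one_sub hz) fun h4 =>
        q₀.isPrime.ne_top ((Ideal.eq_top_iff_one _).2 (by simpa using q₀.asIdeal.add_mem h4 hq))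
      have h4 := congrArg (Ideal.Quotient.mk I) h3
      rwa [map_mul, map_sub, map_one, map_mul, h1, mul_one, one_mul, sub_eq_self] at h4
    · right
      have h4 := congrArg (Ideal.Quotient.mk I) (hmin _ hz hq)
      rwa [map_mul, map_mul, h1, mul_one, one_mul] at h4

variable {A : Type u} [CommRing A] [HopfAlgebra R A]

/-- A finite group of multiplicative type over a connected base is isotrivial. -/
theorem isIsotrivial [ConnectedSpace (PrimeSpectrum R)] [Module.Finite R A] (hA : SGA3b.IsMultType R A) :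
    SGA3b.IsIsotrivial R A := by
  classical
  haveI : Coalgebra.IsCocomm R A := Groth.L25.MultType.isCocomm hA
  haveI : Module.Projective R A := Groth.L25.Char.projective_of_isMultType hA
  haveI : Module.Finite R (Du R A) := Module.Finite.equiv (WithConv.linearEquiv R (A →ₗ[R] R)).symm
  haveI : Module.Projective R (Du R A) := Module.Projective.of_equiv (WithConv.linearEquiv R (A →ₗ[R] R)).symm
  haveI : Module.FinitePresentation R (Du R A) := Module.finitePresentation_of_projective R (Du R A)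
  haveI : Algebra.FinitePresentation R (Du R A) := (Module.FinitePresentation.iff_finitePresentation_of_finite R (Du R A)).1 inferInstance
  haveI : Algebra.FormallyUnramified R (Du R A) := ⟨subsingleton_of_forall_prime fun p _ => by
    obtain ⟨B, _, _, _, q, hq, hqp, M, _, _, ⟨e⟩⟩ := Groth.L25.Char.exists_etale_split hA p
    haveI : Nontrivial B := ⟨0, 1, fun h => hq.ne_top ((Ideal.eq_top_iff_one _).2 (h ▸ q.zero_mem))⟩
    let γ : Module.Basis M B (B ⊗[R] A) :=
      Module.Basis.ofRepr (e.toLinearEquiv.trans (MonoidAlgebra.coeffLinearEquiv B))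
    have hγ : ∀ m, IsGroupLikeElem B (γ m) := fun m => by
      have h1 : γ m = e.symm (MonoidAlgebra.single m 1) := by
        simp [γ, Module.Basis.coe_ofRepr]
        rfl
      rw [h1]
      exact (MonoidAlgebra.isGroupLikeElem_single_one m).map e.symm
    haveI : Finite M := Module.Finite.finite_basis γ
    obtain ⟨Φ⟩ := exists_dual_equiv γ hγ
    haveI : Algebra.FormallyUnramified B (B ⊗[R] Du R A) := Algebra.FormallyUnramified.of_equiv Φ.symm
    letI : Algebra (Du R A) (B ⊗[R] Du R A) := Algebra.TensorProduct.rightAlgebra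
    exact ⟨B, inferInstance, inferInstance, inferInstance, q, hq, hqp,
      (KaehlerDifferential.tensorKaehlerEquivBase R B (Du R A) (B ⊗[R] Du R A)).toEquiv.subsingleton⟩⟩
  haveI : Algebra.Etale R (Du R A) := Algebra.Etale.of_formallyUnramified_of_flat
  obtain ⟨p₀⟩ : Nonempty (PrimeSpectrum R) := inferInstance
  have hn : Module.rankAtStalk (R := R) (Du R A) = Module.rankAtStalk (R := R) (Du R A) p₀ := funext fun p =>
    Module.isLocallyConstant_rankAtStalk.apply_eq_of_preconnectedSpace p p₀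
  obtain ⟨T, _, _, _, _, _, hsplit⟩ := Algebra.IsFiniteSplit.exists_tensorProduct_of_etale hn
  obtain ⟨T₁, _, _, _, _, het, hfin, hff, hnt, hidem⟩ := exists_component (R := R) T
  haveI hsp : Algebra.IsFiniteSplit T₁ (T₁ ⊗[R] Du R A) :=
    Algebra.IsFiniteSplit.of_algEquiv (Algebra.TensorProduct.cancelBaseChange R T T₁ T₁ (Du R A))
  obtain ⟨n, ⟨ε⟩⟩ := hsp.nonempty_algEquiv_fun
  exact ⟨T₁, inferInstance, inferInstance, het, hfin, hff, exists_diag hidem ε⟩

end Groth.L25.FinMult
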